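import Mathlib

/-!
# Jordan sets and Marggraf's theorem

Let `G` act primitively on a finite set `Ω` and let `Γ` be a Jordan set (the pointwise stabiliser of
`Ω \ Γ` is transitive on `Γ`) with `1 < #Γ`. If `2 * #Γ < #Ω` then `G` induces every even
permutation, and if `2 * #Γ ≤ #Ω` (and `3 ≤ #Ω`) then `G` is 3-transitive.

The proof uses the geometry of the translates of `Γ`: for every set `U` of points, the union `X U`
of the translates of `Γ` avoiding `U` is again a Jordan set (`avoid_conn`), and the classes of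
"inseparable" points of these sets grow at least geometrically as soon as a line of three points
appears, which bounds the complement of `Γ` by `#Γ`.
-/

namespace CfsgLib.Perm59

open MulAction Finset

open scoped Pointwise

section

variable (G : Type*) {Ω : Type*} [Group G] [MulAction G Ω] [Fintype Ω] [DecidableEq Ω]

set_option linter.unusedSectionVars false

/-- A Jordan set: the pointwise stabiliser of the complement is transitive on it. -/
def IsJordanSet (Γ : Finset Ω) : Prop :=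
  ∀ x ∈ Γ, ∀ y ∈ Γ, ∃ h : G, (∀ z, z ∉ Γ → h • z = z) ∧ h • x = y

variable (Γ : Finset Ω)

/-- The group generated by the stabilisers of the translates of `Γ` contained in `X`. -/
def gen (X : Finset Ω) : Subgroup G :=
  Subgroup.closure {h | ∃ g : G, g • Γ ⊆ X ∧ ∀ z, z ∉ g • Γ → h • z = z}

/-- `X` is covered by translates of `Γ` and their stabilisers generate a transitive group on it. -/
def IsConn (X : Finset Ω) : Prop :=
  (∀ x ∈ X, ∃ g : G, x ∈ g • Γ ∧ g • Γ ⊆ X) ∧ ∀ x ∈ X, ∀ y ∈ X, ∃ k ∈ gen G Γ X, k • x = y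

open Classical in
/-- The points of `X` lying in exactly the same translates inside `X` as `x`. -/
noncomputable def cls (X : Finset Ω) (x : Ω) : Finset Ω :=
  X.filter fun y => ∀ g : G, g • Γ ⊆ X → x ∈ g • Γ → y ∈ g • Γ

open Classical in
/-- The union of the translates of `Γ` avoiding `U`. -/
noncomputable def avoid (U : Finset Ω) : Finset Ω :=
  univ.filter fun x => ∃ g : G, x ∈ g • Γ ∧ Disjoint (g • Γ) U

variable {G Γ}

theorem mem_cls {X : Finset Ω} {x y : Ω} :
    y ∈ cls G Γ X x ↔ y ∈ X ∧ ∀ g : G, g • Γ ⊆ X → x ∈ g • Γ → y ∈ g • Γ := by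
  classical
  simp [cls]

theorem mem_avoid {U : Finset Ω} {x : Ω} :
    x ∈ avoid G Γ U ↔ ∃ g : G, x ∈ g • Γ ∧ Disjoint (g • Γ) U := by
  classical
  simp [avoid]

theorem subset_avoid {U : Finset Ω} {g : G} (h : Disjoint (g • Γ) U) : g • Γ ⊆ avoid G Γ U :=
  fun _ hx => mem_avoid.2 ⟨g, hx, h⟩

theorem avoid_disjoint (U : Finset Ω) : Disjoint (avoid G Γ U) U := by
  rw [disjoint_left]
  intro x hx hxU
  obtain ⟨g, hxg, hg⟩ := mem_avoid.1 hx
  exact disjoint_left.1 hg hxg hxU

theorem avoid_anti {U U' : Finset Ω} (h : U ⊆ U') : avoid G Γ U' ⊆ avoid G Γ U := fun _ hx => by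
  obtain ⟨g, hxg, hg⟩ := mem_avoid.1 hx
  exact mem_avoid.2 ⟨g, hxg, hg.mono_right h⟩

theorem avoid_smul (a : G) (U : Finset Ω) : avoid G Γ (a • U) = a • avoid G Γ U := by
  ext x
  rw [← inv_smul_mem_iff, mem_avoid, mem_avoid]
  constructor
  · rintro ⟨g, hx, hg⟩
    refine ⟨a⁻¹ * g, by rw [mul_smul]; exact smul_mem_smul_finset hx, ?_⟩
    rw [mul_smul, disjoint_left]
    intro z hz hzU
    rw [mem_inv_smul_finset_iff] at hz
    exact disjoint_left.1 hg hz (smul_mem_smul_finset hzU)
  · rintro ⟨g, hx, hg⟩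
    refine ⟨a * g, by rw [mul_smul, ← inv_smul_mem_iff]; exact hx, ?_⟩
    rw [mul_smul, disjoint_left]
    intro z hz hzU
    rw [← inv_smul_mem_iff] at hz hzU
    exact disjoint_left.1 hg hz hzU

/-- The generated group fixes the outside pointwise. -/
theorem smul_eq_of_notMem {X : Finset Ω} {k : G} (hk : k ∈ gen G Γ X) {z : Ω} (hz : z ∉ X) :
    k • z = z := by
  induction hk using Subgroup.closure_induction with
  | mem h hh =>
    obtain ⟨g, hgX, hg⟩ := hh
    exact hg z fun h' => hz (hgX h')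
  | one => exact one_smul G z
  | mul a b _ _ ha hb => rw [mul_smul, hb, ha]
  | inv a _ ha => exact inv_smul_eq_iff.2 ha.symm

theorem smul_mem_of_mem {X : Finset Ω} {k : G} (hk : k ∈ gen G Γ X) {z : Ω} (hz : z ∈ X) :
    k • z ∈ X := by
  by_contra h
  have h' := smul_eq_of_notMem hk h
  rw [smul_left_cancel_iff] at h'
  exact h (h'.symm ▸ hz)

theorem smul_finset_eq {X : Finset Ω} {k : G} (hk : k ∈ gen G Γ X) : k • X = X := by
  refine eq_of_subset_of_card_le (fun z hz => ?_) (card_smul_finset k X).ge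
  obtain ⟨w, hw, rfl⟩ := mem_smul_finset.1 hz
  exact smul_mem_of_mem hk hw

theorem gen_mono {X Y : Finset Ω} (h : X ⊆ Y) : gen G Γ X ≤ gen G Γ Y :=
  Subgroup.closure_mono fun _ ⟨g, hg, hh⟩ => ⟨g, hg.trans h, hh⟩

theorem isJordanSet_smul (hJ : IsJordanSet G Γ) (g : G) : IsJordanSet G (g • Γ) := by
  intro x hx y hy
  obtain ⟨x, hx', rfl⟩ := mem_smul_finset.1 hx
  obtain ⟨y, hy', rfl⟩ := mem_smul_finset.1 hy
  obtain ⟨h, hh, hxy⟩ := hJ x hx' y hy'
  refine ⟨g * h * g⁻¹, fun z hz => ?_, ?_⟩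
  · rw [← inv_smul_mem_iff] at hz
    rw [mul_smul, mul_smul, hh _ hz, smul_inv_smul]
  · rw [mul_smul, mul_smul, inv_smul_smul, hxy]

theorem isConn_smul_self (hJ : IsJordanSet G Γ) (g : G) : IsConn G Γ (g • Γ) :=
  ⟨fun _ hx => ⟨g, hx, Subset.rfl⟩, fun x hx y hy => by
    obtain ⟨h, hh, hxy⟩ := isJordanSet_smul hJ g x hx y hy
    exact ⟨h, Subgroup.subset_closure ⟨g, Subset.rfl, hh⟩, hxy⟩⟩

theorem smul_gen {X : Finset Ω} (a : G) {k : G} (hk : k ∈ gen G Γ X) :
    a * k * a⁻¹ ∈ gen G Γ (a • X) := by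
  induction hk using Subgroup.closure_induction with
  | mem h hh =>
    obtain ⟨g, hgX, hg⟩ := hh
    refine Subgroup.subset_closure ⟨a * g, ?_, fun z hz => ?_⟩
    · rw [mul_smul]; exact smul_finset_subset_smul_finset hgX
    · rw [mul_smul, ← inv_smul_mem_iff] at hz
      rw [mul_smul, mul_smul, hg _ hz, smul_inv_smul]
  | one => simp [one_mem]
  | mul x y _ _ hx hy =>
    have := mul_mem hx hy
    simpa [mul_assoc] using this
  | inv x _ hx =>
    have := inv_mem hx
    simpa [mul_assoc] using this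

theorem IsConn.smul {X : Finset Ω} (hX : IsConn G Γ X) (a : G) : IsConn G Γ (a • X) := by
  constructor
  · intro x hx
    obtain ⟨x, hx', rfl⟩ := mem_smul_finset.1 hx
    obtain ⟨g, hxg, hg⟩ := hX.1 x hx'
    exact ⟨a * g, by rw [mul_smul]; exact smul_mem_smul_finset hxg,
      by rw [mul_smul]; exact smul_finset_subset_smul_finset hg⟩
  · intro x hx y hy
    obtain ⟨x, hx', rfl⟩ := mem_smul_finset.1 hx
    obtain ⟨y, hy', rfl⟩ := mem_smul_finset.1 hy
    obtain ⟨k, hk, hxy⟩ := hX.2 x hx' y hy'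
    exact ⟨a * k * a⁻¹, smul_gen a hk, by rw [mul_smul, mul_smul, inv_smul_smul, hxy]⟩

/-- The union of two overlapping connected sets is connected. -/
theorem IsConn.union {X Y : Finset Ω} (hX : IsConn G Γ X) (hY : IsConn G Γ Y)
    (h : ¬ Disjoint X Y) : IsConn G Γ (X ∪ Y) := by
  obtain ⟨c, hcX, hcY⟩ := not_disjoint_iff.1 h
  have key : ∀ x ∈ X ∪ Y, ∃ k ∈ gen G Γ (X ∪ Y), k • c = x := by
    intro x hx
    rcases mem_union.1 hx with hx | hx
    · obtain ⟨k, hk, hkx⟩ := hX.2 c hcX x hx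
      exact ⟨k, gen_mono subset_union_left hk, hkx⟩
    · obtain ⟨k, hk, hkx⟩ := hY.2 c hcY x hx
      exact ⟨k, gen_mono subset_union_right hk, hkx⟩
  refine ⟨fun x hx => ?_, fun x hx y hy => ?_⟩
  · rcases mem_union.1 hx with hx | hx
    · obtain ⟨g, hxg, hg⟩ := hX.1 x hx
      exact ⟨g, hxg, hg.trans subset_union_left⟩
    · obtain ⟨g, hxg, hg⟩ := hY.1 x hx
      exact ⟨g, hxg, hg.trans subset_union_right⟩
  · obtain ⟨k, hk, rfl⟩ := key x hx
    obtain ⟨l, hl, rfl⟩ := key y hy
    exact ⟨l * k⁻¹, mul_mem hl (inv_mem hk), by rw [mul_smul, inv_smul_smul]⟩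

theorem self_mem_cls {X : Finset Ω} {x : Ω} (hx : x ∈ X) : x ∈ cls G Γ X x :=
  mem_cls.2 ⟨hx, fun _ _ h => h⟩

theorem cls_subset (X : Finset Ω) (x : Ω) : cls G Γ X x ⊆ X := fun _ hy => (mem_cls.1 hy).1

theorem cls_trans {X : Finset Ω} {x y z : Ω} (hy : y ∈ cls G Γ X x) (hz : z ∈ cls G Γ X y) :
    z ∈ cls G Γ X x :=
  mem_cls.2 ⟨(mem_cls.1 hz).1, fun g hg hx => (mem_cls.1 hz).2 g hg ((mem_cls.1 hy).2 g hg hx)⟩

/-- A class inside `Y ⊆ X` is contained in the class relative to the smaller set. -/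
theorem cls_mono {X Y : Finset Ω} (h : Y ⊆ X) {x y : Ω} (hy : y ∈ cls G Γ X x) (hyY : y ∈ Y) :
    y ∈ cls G Γ Y x :=
  mem_cls.2 ⟨hyY, fun g hg hx => (mem_cls.1 hy).2 g (hg.trans h) hx⟩

theorem cls_smul {X : Finset Ω} {k : G} (hk : k ∈ gen G Γ X) (x : Ω) :
    cls G Γ X (k • x) = k • cls G Γ X x := by
  have hX := smul_finset_eq hk
  have hsub : ∀ (a : G), a • X = X → ∀ g : G, g • Γ ⊆ X → (a * g) • Γ ⊆ X := fun a ha g hg => by
    rw [mul_smul, ← ha]; exact smul_finset_subset_smul_finset hg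
  ext y
  rw [← inv_smul_mem_iff, mem_cls, mem_cls]
  constructor
  · rintro ⟨hy, hall⟩
    refine ⟨smul_mem_of_mem (inv_mem hk) hy, fun g hg hx => ?_⟩
    have := hall (k * g) (hsub k hX g hg) (by rw [mul_smul]; exact smul_mem_smul_finset hx)
    rwa [mul_smul, ← inv_smul_mem_iff] at this
  · rintro ⟨hy, hall⟩
    refine ⟨by simpa using smul_mem_of_mem hk hy, fun g hg hx => ?_⟩
    have := hall (k⁻¹ * g) (hsub k⁻¹ (smul_finset_eq (inv_mem hk)) g hg)
      (by rw [mul_smul, mem_inv_smul_finset_iff]; exact hx)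
    rwa [mul_smul, mem_inv_smul_finset_iff, smul_inv_smul] at this

theorem card_cls_eq {X : Finset Ω} (hX : IsConn G Γ X) {x y : Ω} (hx : x ∈ X) (hy : y ∈ X) :
    (cls G Γ X x).card = (cls G Γ X y).card := by
  obtain ⟨k, hk, rfl⟩ := hX.2 x hx y hy
  rw [cls_smul hk, card_smul_finset]

theorem cls_eq_of_mem {X : Finset Ω} (hX : IsConn G Γ X) {x y : Ω} (hx : x ∈ X)
    (hy : y ∈ cls G Γ X x) : cls G Γ X y = cls G Γ X x :=
  eq_of_subset_of_card_le (fun _ hz => cls_trans hy hz)
    (card_cls_eq hX hx (cls_subset X x hy)).le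

theorem cls_symm {X : Finset Ω} (hX : IsConn G Γ X) {x y : Ω} (hx : x ∈ X)
    (hy : y ∈ cls G Γ X x) : x ∈ cls G Γ X y := by
  rw [cls_eq_of_mem hX hx hy]; exact self_mem_cls hx

/-- Connected subsets of `X` are unions of classes. -/
theorem IsConn.cls_subset_of_subset {X P : Finset Ω} (hP : IsConn G Γ P) (h : P ⊆ X) {x : Ω}
    (hx : x ∈ P) : cls G Γ X x ⊆ P := fun y hy => by
  obtain ⟨g, hxg, hg⟩ := hP.1 x hx
  exact hg ((mem_cls.1 hy).2 g (hg.trans h) hxg)

/-- A block of the generated group which is a union of classes is one class or everything. -/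
theorem eq_or_subset_cls (hJ : IsJordanSet G Γ) {X B : Finset Ω} (hX : IsConn G Γ X)
    (hBX : B ⊆ X) {b : Ω} (hb : b ∈ B)
    (hblock : ∀ k ∈ gen G Γ X, k • B = B ∨ Disjoint (k • B) B) :
    B = X ∨ B ⊆ cls G Γ X b := by
  refine or_iff_not_imp_right.2 fun hne => ?_
  obtain ⟨c, hcB, hc⟩ := not_subset.1 hne
  rw [mem_cls] at hc
  push Not at hc
  obtain ⟨g, hgX, hbg, hcg⟩ := hc (hBX hcB)
  have hgB : g • Γ ⊆ B := by
    intro y hy
    obtain ⟨h, hh, hby⟩ := isJordanSet_smul hJ g b hbg y hy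
    have hk : h ∈ gen G Γ X := Subgroup.subset_closure ⟨g, hgX, hh⟩
    rcases hblock h hk with h1 | h1
    · rw [← h1, ← hby]; exact smul_mem_smul_finset hb
    · exact absurd hcB (disjoint_left.1 h1 (hh c hcg ▸ smul_mem_smul_finset hcB))
  have hmem : ∀ g' : G, g' • Γ ⊆ X → ¬ Disjoint (g' • Γ) B → g' • Γ ⊆ B := by
    intro g' hg'X hmeet
    obtain ⟨z, hzg, hzB⟩ := not_disjoint_iff.1 hmeet
    by_contra hcon
    obtain ⟨w, hwB, hwg⟩ : ∃ w ∈ B, w ∉ g' • Γ := by
      by_contra h
      push Not at h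
      have hss : g • Γ ⊂ B :=
        ⟨hgB, fun h' => hcg (h' hcB)⟩
      have := card_lt_card hss
      have := card_le_card h
      rw [card_smul_finset] at *
      omega
    refine hcon fun y hy => ?_
    obtain ⟨h, hh, hzy⟩ := isJordanSet_smul hJ g' z hzg y hy
    have hk : h ∈ gen G Γ X := Subgroup.subset_closure ⟨g', hg'X, hh⟩
    rcases hblock h hk with h1 | h1
    · rw [← h1, ← hzy]; exact smul_mem_smul_finset hzB
    · exact absurd hwB (disjoint_left.1 h1 (hh w hwg ▸ smul_mem_smul_finset hwB))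
  have hinv : ∀ k ∈ gen G Γ X, k • B = B := by
    intro k hk
    induction hk using Subgroup.closure_induction with
    | mem h hh =>
      obtain ⟨g', hg'X, hg'⟩ := hh
      refine eq_of_subset_of_card_le (fun z hz => ?_) (card_smul_finset h B).ge
      obtain ⟨w, hw, rfl⟩ := mem_smul_finset.1 hz
      by_cases hwg : w ∈ g' • Γ
      · refine hmem g' hg'X (not_disjoint_iff.2 ⟨w, hwg, hw⟩) ?_
        by_contra hn
        have h' := hg' _ hn
        rw [smul_left_cancel_iff] at h'
        exact hn (h'.symm ▸ hwg)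
      · rw [hg' w hwg]; exact hw
    | one => exact one_smul G B
    | mul x y _ _ hx hy => rw [mul_smul, hy, hx]
    | inv x _ hx => exact inv_smul_eq_iff.2 hx.symm
  refine subset_antisymm hBX fun y hy => ?_
  obtain ⟨k, hk, rfl⟩ := hX.2 b (hBX hb) y hy
  rw [← hinv k hk]
  exact smul_mem_smul_finset hb

theorem not_mem_cls_of_mem {X : Finset Ω} (hX : IsConn G Γ X) {g : G} (hg : g • Γ ⊆ X) {t y : Ω}
    (hy : y ∈ g • Γ) (ht : t ∈ X) (htg : t ∉ g • Γ) : y ∉ cls G Γ X t :=
  fun h => htg ((mem_cls.1 (cls_symm hX ht h)).2 g hg hy)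

theorem subset_sdiff_cls {X : Finset Ω} (hX : IsConn G Γ X) {g : G} (hg : g • Γ ⊆ X) {t : Ω}
    (ht : t ∈ X) (htg : t ∉ g • Γ) : g • Γ ⊆ X \ cls G Γ X t := fun _ hy =>
  mem_sdiff.2 ⟨hg hy, not_mem_cls_of_mem hX hg hy ht htg⟩

/-- Jordan's argument: deleting one class of a connected set leaves a connected set. -/
theorem IsConn.sdiff_cls (hJ : IsJordanSet G Γ) {X : Finset Ω} (hX : IsConn G Γ X) {t : Ω}
    (ht : t ∈ X) (hne : (X \ cls G Γ X t).Nonempty) : IsConn G Γ (X \ cls G Γ X t) := by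
  classical
  obtain ⟨y₀, hy₀⟩ := hne
  rw [mem_sdiff, mem_cls] at hy₀
  push Not at hy₀
  obtain ⟨g₀, hg₀X, htg₀, hy₀g₀⟩ := hy₀.2 hy₀.1
  let S := X.powerset.filter fun P => IsConn G Γ P ∧ P.Nonempty ∧ P ≠ X
  have hS : S.Nonempty :=
    ⟨g₀ • Γ, mem_filter.2 ⟨mem_powerset.2 hg₀X, isConn_smul_self hJ g₀, ⟨t, htg₀⟩,
      fun h => hy₀g₀ (h.symm ▸ hy₀.1)⟩⟩
  obtain ⟨P, hPS, hmax⟩ := exists_max_image S Finset.card hS
  simp only [S, mem_filter, mem_powerset] at hPS hmax
  obtain ⟨hPX, hP, ⟨p, hp⟩, hPne⟩ := hPS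
  have hdich : ∀ k ∈ gen G Γ X, ¬ Disjoint (k • P) P → k • P = P ∨ k • P ∪ P = X := by
    intro k hk hmeet
    refine or_iff_not_imp_right.2 fun hU => ?_
    have hkX : k • P ⊆ X := smul_finset_eq hk ▸ smul_finset_subset_smul_finset hPX
    have hc := hmax (k • P ∪ P) ⟨union_subset hkX hPX, (hP.smul k).union hP hmeet,
      ⟨p, mem_union_right _ hp⟩, hU⟩
    have h1 : k • P = k • P ∪ P :=
      eq_of_subset_of_card_le subset_union_left (by rw [card_smul_finset]; exact hc)
    have h2 : P = k • P ∪ P := eq_of_subset_of_card_le subset_union_right hc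
    rw [h1, ← h2]
  by_cases hblock : ∀ k ∈ gen G Γ X, k • P = P ∨ Disjoint (k • P) P
  · exfalso
    rcases eq_or_subset_cls hJ hX hPX hp hblock with h | h
    · exact hPne h
    obtain ⟨g, hpg, hg⟩ := hP.1 p hp
    have hgc : g • Γ = cls G Γ X p :=
      subset_antisymm (hg.trans h) fun y hy => (mem_cls.1 hy).2 g (hg.trans hPX) hpg
    have hcard : ∀ x ∈ X, (cls G Γ X x).card = Γ.card := fun x hx => by
      rw [card_cls_eq hX hx (hPX hp), ← hgc, card_smul_finset]
    have hmem : ∀ g' : G, g' • Γ ⊆ X → ∀ x ∈ g' • Γ, cls G Γ X x = g' • Γ := fun g' hg' x hx =>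
      eq_of_subset_of_card_le (fun y hy => (mem_cls.1 hy).2 g' hg' hx)
        (by rw [hcard x (hg' hx), card_smul_finset])
    have hinv : ∀ k ∈ gen G Γ X, ∀ x ∈ X, k • x ∈ cls G Γ X x := by
      intro k hk
      induction hk using Subgroup.closure_induction with
      | mem s hh =>
        obtain ⟨g', hg'X, hg'⟩ := hh
        intro x hx
        by_cases hxg : x ∈ g' • Γ
        · rw [hmem g' hg'X x hxg]
          by_contra hn
          have h' := hg' _ hn
          rw [smul_left_cancel_iff] at h'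
          exact hn (h'.symm ▸ hxg)
        · rw [hg' x hxg]; exact self_mem_cls hx
      | one => intro x hx; rw [one_smul]; exact self_mem_cls hx
      | mul a b _ _ ha hb =>
        intro x hx
        rw [mul_smul]
        exact cls_trans (hb x hx) (ha _ (cls_subset X x (hb x hx)))
      | inv a ha' ha =>
        intro x hx
        have hx' := smul_mem_of_mem (inv_mem ha') hx
        have := ha _ hx'
        rw [smul_inv_smul] at this
        exact cls_symm hX hx' this
    apply hPne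
    refine subset_antisymm hPX fun y hy => ?_
    obtain ⟨k, hk, rfl⟩ := hX.2 p (hPX hp) y hy
    exact hP.cls_subset_of_subset hPX hp (hinv k hk p (hPX hp))
  push Not at hblock
  obtain ⟨k₀, hk₀, hk₀P, hk₀d⟩ := hblock
  have hU := (hdich k₀ hk₀ hk₀d).resolve_left hk₀P
  have hbig : X.card < P.card + P.card := by
    have h1 := card_union_add_card_inter (k₀ • P) P
    rw [hU, card_smul_finset] at h1
    have h2 : 0 < (k₀ • P ∩ P).card := by
      rw [card_pos]
      exact not_disjoint_iff_nonempty_inter.1 hk₀d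
    omega
  have hDblock : ∀ k ∈ gen G Γ X, k • (X \ P) = X \ P ∨ Disjoint (k • (X \ P)) (X \ P) := by
    intro k hk
    have hmeet : ¬ Disjoint (k • P) P := by
      intro hd
      have hkX : k • P ⊆ X := smul_finset_eq hk ▸ smul_finset_subset_smul_finset hPX
      have := card_le_card (union_subset hkX hPX)
      rw [card_union_of_disjoint hd, card_smul_finset] at this
      omega
    rw [smul_finset_sdiff, smul_finset_eq hk]
    rcases hdich k hk hmeet with h | h
    · exact Or.inl (by rw [h])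
    · refine Or.inr (disjoint_left.2 fun z hz hz' => ?_)
      rw [mem_sdiff] at hz hz'
      rw [← h] at hz
      rcases mem_union.1 hz.1 with h1 | h1
      · exact hz.2 h1
      · exact hz'.2 h1
  obtain ⟨d, hd⟩ : (X \ P).Nonempty := by
    rw [sdiff_nonempty]
    exact fun h => hPne (subset_antisymm hPX h)
  rcases eq_or_subset_cls hJ hX sdiff_subset hd hDblock with h | h
  · exfalso
    have : p ∈ X \ P := h.symm ▸ hPX hp
    exact (mem_sdiff.1 this).2 hp
  have hD : X \ P = cls G Γ X d := by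
    refine subset_antisymm h fun y hy => mem_sdiff.2 ⟨cls_subset X d hy, fun hyP => ?_⟩
    have hd' := hP.cls_subset_of_subset hPX hyP (cls_symm hX (mem_sdiff.1 hd).1 hy)
    exact (mem_sdiff.1 hd).2 hd'
  obtain ⟨k, hk, rfl⟩ := hX.2 d (mem_sdiff.1 hd).1 t ht
  have := hP.smul k
  rwa [show X \ cls G Γ X (k • d) = k • P by
    rw [cls_smul hk, ← hD]
    conv_lhs => rw [← smul_finset_eq hk]
    rw [← smul_finset_sdiff, smul_finset_eq hk, Finset.sdiff_sdiff_eq_self hPX]]

theorem avoid_insert {U : Finset Ω} (hX : IsConn G Γ (avoid G Γ U)) {t : Ω}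
    (ht : t ∈ avoid G Γ U) :
    avoid G Γ (insert t U) = avoid G Γ U \ cls G Γ (avoid G Γ U) t := by
  ext y
  constructor
  · intro hy
    obtain ⟨g, hyg, hg⟩ := mem_avoid.1 hy
    rw [disjoint_insert_right] at hg
    exact subset_sdiff_cls hX (subset_avoid hg.2) ht hg.1 hyg
  · intro hy
    rw [mem_sdiff] at hy
    have : t ∉ cls G Γ (avoid G Γ U) y := fun h => hy.2 (cls_symm hX hy.1 h)
    rw [mem_cls] at this
    push Not at this
    obtain ⟨g, hg, hyg, htg⟩ := this ht
    refine mem_avoid.2 ⟨g, hyg, disjoint_insert_right.2 ⟨htg, ?_⟩⟩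
    exact (avoid_disjoint U).mono_left hg

end

section Primitive

variable {G Ω : Type*} [Group G] [MulAction G Ω] [Fintype Ω] [DecidableEq Ω] {Γ : Finset Ω}

theorem avoid_empty [IsPretransitive G Ω] (hΓ : Γ.Nonempty) :
    avoid G Γ (∅ : Finset Ω) = univ := by
  refine eq_univ_of_forall fun x => ?_
  obtain ⟨a, ha⟩ := hΓ
  obtain ⟨g, rfl⟩ := exists_smul_eq G a x
  exact mem_avoid.2 ⟨g, smul_mem_smul_finset ha, disjoint_empty_right _⟩

theorem gen_univ_normal : (gen G Γ (univ : Finset Ω)).Normal :=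
  ⟨fun k hk g => by
    have := smul_gen g hk
    rwa [smul_finset_univ] at this⟩

theorem isConn_univ [IsPreprimitive G Ω] (hJ : IsJordanSet G Γ) (hΓ : 1 < Γ.card) :
    IsConn G Γ (univ : Finset Ω) := by
  refine ⟨fun x _ => ?_, fun x _ y _ => ?_⟩
  · obtain ⟨a, ha⟩ := card_pos.1 (show 0 < Γ.card by omega)
    obtain ⟨g, rfl⟩ := exists_smul_eq G a x
    exact ⟨g, smul_mem_smul_finset ha, subset_univ _⟩
  · have := gen_univ_normal (G := G) (Γ := Γ)
    obtain ⟨a, ha, b, hb, hab⟩ := one_lt_card.1 hΓ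
    obtain ⟨h, hh, hhab⟩ := hJ a ha b hb
    have hmem : h ∈ gen G Γ (univ : Finset Ω) :=
      Subgroup.subset_closure ⟨1, subset_univ _, by simpa using hh⟩
    rcases IsPreprimitive.isTrivialBlock_of_isBlock
      (IsBlock.orbit_of_normal (N := gen G Γ (univ : Finset Ω)) a) with hs | hs
    · exact absurd (hs (mem_orbit_self a) ⟨⟨h, hmem⟩, hhab⟩) hab
    · have hx : x ∈ orbit (gen G Γ (univ : Finset Ω)) a := hs.symm ▸ Set.mem_univ x
      have hy : y ∈ orbit (gen G Γ (univ : Finset Ω)) a := hs.symm ▸ Set.mem_univ y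
      obtain ⟨⟨k, hk⟩, rfl⟩ := hx
      obtain ⟨⟨l, hl⟩, rfl⟩ := hy
      exact ⟨l * k⁻¹, mul_mem hl (inv_mem hk), by
        show (l * k⁻¹) • k • a = l • a
        rw [mul_smul, inv_smul_smul]⟩

theorem avoid_conn [IsPreprimitive G Ω] (hJ : IsJordanSet G Γ) (hΓ : 1 < Γ.card)
    (U : Finset Ω) (hne : (avoid G Γ U).Nonempty) : IsConn G Γ (avoid G Γ U) := by
  induction U using Finset.induction_on with
  | empty =>
    rw [avoid_empty (card_pos.1 (show 0 < Γ.card by omega))]
    exact isConn_univ hJ hΓ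
  | @insert t U _ ih =>
    have hsub := avoid_anti (G := G) (Γ := Γ) (subset_insert t U)
    have hX := ih (hne.mono hsub)
    by_cases ht : t ∈ avoid G Γ U
    · rw [avoid_insert hX ht] at hne ⊢
      exact hX.sdiff_cls hJ ht hne
    · have : avoid G Γ (insert t U) = avoid G Γ U := by
        refine subset_antisymm hsub fun y hy => ?_
        obtain ⟨g, hyg, hg⟩ := mem_avoid.1 hy
        exact mem_avoid.2 ⟨g, hyg, disjoint_insert_right.2 ⟨fun h => ht (subset_avoid hg h), hg⟩⟩
      rw [this]; exact hX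

/-- In a primitive group distinct points are separated by translates of `Γ`. -/
theorem cls_univ [IsPreprimitive G Ω] (hJ : IsJordanSet G Γ) (hΓ : 1 < Γ.card)
    (hΓ' : Γ.card < Fintype.card Ω) (x : Ω) : cls G Γ (univ : Finset Ω) x = {x} := by
  have hX := isConn_univ (G := G) hJ hΓ
  have hsmul : ∀ (a : G) (x : Ω), cls G Γ (univ : Finset Ω) (a • x) = a • cls G Γ univ x := by
    intro a x
    ext y
    rw [← inv_smul_mem_iff, mem_cls, mem_cls]
    constructor
    · rintro ⟨-, hall⟩
      refine ⟨mem_univ _, fun g _ hx => ?_⟩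
      have := hall (a * g) (subset_univ _) (by rw [mul_smul]; exact smul_mem_smul_finset hx)
      rwa [mul_smul, ← inv_smul_mem_iff] at this
    · rintro ⟨-, hall⟩
      refine ⟨mem_univ _, fun g _ hx => ?_⟩
      have := hall (a⁻¹ * g) (subset_univ _)
        (by rw [mul_smul, mem_inv_smul_finset_iff]; exact hx)
      rwa [mul_smul, mem_inv_smul_finset_iff, smul_inv_smul] at this
  have hblock : IsBlock G ((cls G Γ (univ : Finset Ω) x : Finset Ω) : Set Ω) := by
    rw [isBlock_iff_smul_eq_or_disjoint]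
    intro a
    rw [← coe_smul_finset, ← hsmul, coe_inj, disjoint_coe]
    refine or_iff_not_imp_left.2 fun hne => disjoint_left.2 fun z hz hz' => hne ?_
    rw [← cls_eq_of_mem hX (mem_univ _) hz, ← cls_eq_of_mem hX (mem_univ _) hz']
  rcases IsPreprimitive.isTrivialBlock_of_isBlock hblock with h | h
  · exact eq_singleton_iff_unique_mem.2
      ⟨self_mem_cls (mem_univ x), fun y hy => h hy (self_mem_cls (mem_univ x))⟩
  · exfalso
    obtain ⟨g, hxg, -⟩ := hX.1 x (mem_univ x)
    have hsub : (univ : Finset Ω) ⊆ g • Γ := fun y _ => by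
      have : y ∈ cls G Γ (univ : Finset Ω) x := by rw [← mem_coe, h]; trivial
      exact (mem_cls.1 this).2 g (subset_univ _) hxg
    have := card_le_card hsub
    rw [card_univ, card_smul_finset] at this
    omega

variable (G Γ) in
/-- Every two classes of `X` span a line with a third class. -/
def HasLines (X : Finset Ω) : Prop :=
  ∀ w ∈ X, ∀ u ∈ X \ cls G Γ X w,
    ∃ v ∈ cls G Γ (X \ cls G Γ X w) u, v ∉ cls G Γ X u

theorem HasLines.sdiff (hJ : IsJordanSet G Γ) {X : Finset Ω} (hX : IsConn G Γ X)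
    (hL : HasLines G Γ X) {t : Ω} (ht : t ∈ X) :
    HasLines G Γ (X \ cls G Γ X t) := by
  intro w hw u hu
  set X' := X \ cls G Γ X t with hX'def
  have hX' : IsConn G Γ X' := hX.sdiff_cls hJ ht ⟨w, hw⟩
  have hu' : u ∈ X' := (mem_sdiff.1 hu).1
  have hwX : w ∈ X := (mem_sdiff.1 hw).1
  have huX : u ∈ X := (mem_sdiff.1 hu').1
  -- a translate through `u` avoiding `t` and `w`
  have hwu : w ∉ cls G Γ X' u := fun h => (mem_sdiff.1 hu).2 (cls_symm hX' hu' h)
  rw [mem_cls] at hwu
  push Not at hwu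
  obtain ⟨g, hgX', hug, hwg⟩ := hwu hw
  have hgX : g • Γ ⊆ X := hgX'.trans sdiff_subset
  have htg : t ∉ g • Γ := fun h => (mem_sdiff.1 (hgX' h)).2 (self_mem_cls ht)
  have huw : u ∉ cls G Γ X w := not_mem_cls_of_mem hX hgX hug hwX hwg
  have hut : u ∉ cls G Γ X t := (mem_sdiff.1 hu').2
  have hwt : w ∉ cls G Γ X t := (mem_sdiff.1 hw).2
  obtain ⟨v, hv, hvu⟩ := hL w hwX u (mem_sdiff.2 ⟨huX, huw⟩)
  set Xw := X \ cls G Γ X w with hXwdef
  set Xu := X \ cls G Γ X u with hXudef
  have hXw : IsConn G Γ Xw := hX.sdiff_cls hJ hwX ⟨u, mem_sdiff.2 ⟨huX, huw⟩⟩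
  have huXw : u ∈ Xw := mem_sdiff.2 ⟨huX, huw⟩
  have hgXw : g • Γ ⊆ Xw := subset_sdiff_cls hX hgX hwX hwg
  have hvg : v ∈ g • Γ := (mem_cls.1 hv).2 g hgXw hug
  have hvX : v ∈ X := hgX hvg
  have hvX' : v ∈ X' := hgX' hvg
  refine ⟨v, mem_cls.2 ⟨?_, fun g' hg' hug' => ?_⟩, fun hvu' => ?_⟩
  · exact subset_sdiff_cls hX' hgX' hw hwg hvg
  · have hwg' : w ∉ g' • Γ := fun h => (mem_sdiff.1 (hg' h)).2 (self_mem_cls hw)
    exact (mem_cls.1 hv).2 g'
      (subset_sdiff_cls hX ((hg'.trans sdiff_subset).trans sdiff_subset) hwX hwg') hug'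
  have hXu : IsConn G Γ Xu := hX.sdiff_cls hJ huX ⟨v, mem_sdiff.2 ⟨hvX, hvu⟩⟩
  have hvXu : v ∈ Xu := mem_sdiff.2 ⟨hvX, hvu⟩
  have hwXu : w ∈ Xu := mem_sdiff.2 ⟨hwX, fun h => huw (cls_symm hX huX h)⟩
  have htXu : t ∈ Xu := mem_sdiff.2 ⟨ht, fun h => hut (cls_symm hX huX h)⟩
  have htXw : t ∈ Xw := mem_sdiff.2 ⟨ht, fun h => hwt (cls_symm hX hwX h)⟩
  have hw1 : w ∈ cls G Γ Xu v := by
    refine mem_cls.2 ⟨hwXu, fun g' hg' hvg' => ?_⟩
    by_contra hwg'
    have hg'X : g' • Γ ⊆ X := hg'.trans sdiff_subset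
    have : u ∈ g' • Γ := (mem_cls.1 (cls_symm hXw huXw hv)).2 g'
      (subset_sdiff_cls hX hg'X hwX hwg') hvg'
    exact (mem_sdiff.1 (hg' this)).2 (self_mem_cls huX)
  have ht1 : t ∈ cls G Γ Xu v := by
    refine mem_cls.2 ⟨htXu, fun g' hg' hvg' => ?_⟩
    by_contra htg'
    have hg'X : g' • Γ ⊆ X := hg'.trans sdiff_subset
    have : u ∈ g' • Γ := (mem_cls.1 (cls_symm hX' hu' hvu')).2 g'
      (subset_sdiff_cls hX hg'X ht htg') hvg'
    exact (mem_sdiff.1 (hg' this)).2 (self_mem_cls huX)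
  have hwt1 : w ∈ cls G Γ Xu t := cls_trans (cls_symm hXu hvXu ht1) hw1
  have hu2 : u ∈ cls G Γ Xw t := by
    refine mem_cls.2 ⟨huXw, fun g' hg' htg' => ?_⟩
    by_contra hug'
    have hg'X : g' • Γ ⊆ X := hg'.trans sdiff_subset
    exact (mem_sdiff.1 (hg' ((mem_cls.1 hwt1).2 g' (subset_sdiff_cls hX hg'X huX hug') htg'))).2
      (self_mem_cls hwX)
  exact htg ((mem_cls.1 (cls_symm hXw htXw hu2)).2 g hgXw hug)

/-- Along deletions of classes the deleted part stays bounded by the class size. -/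
theorem card_add_le_two_mul [IsPreprimitive G Ω] (hJ : IsJordanSet G Γ) (hΓ : 1 < Γ.card) (c : ℕ)
    (U : Finset Ω) (hne : (avoid G Γ U).Nonempty) (hL : HasLines G Γ (avoid G Γ U))
    (hb : ∀ x ∈ avoid G Γ U,
      Fintype.card Ω + c ≤ (avoid G Γ U).card + (cls G Γ (avoid G Γ U) x).card) :
    Fintype.card Ω + c ≤ 2 * Γ.card := by
  induction hn : (avoid G Γ U).card using Nat.strong_induction_on generalizing U with
  | _ n ih =>
    have hX := avoid_conn (G := G) hJ hΓ U hne
    obtain ⟨t, ht⟩ := hne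
    by_cases hne' : (avoid G Γ U \ cls G Γ (avoid G Γ U) t).Nonempty
    · have hins := avoid_insert hX ht
      have hlt : (avoid G Γ (insert t U)).card < n := by
        rw [hins, ← hn]
        exact card_lt_card ⟨sdiff_subset, fun h => (mem_sdiff.1 (h ht)).2 (self_mem_cls ht)⟩
      refine ih _ hlt (insert t U) (hins ▸ hne') (hins ▸ hL.sdiff hJ hX ht) (fun x hx => ?_) rfl
      rw [hins] at hx ⊢
      set X := avoid G Γ U
      set X' := X \ cls G Γ X t
      obtain ⟨v, hv, hvx⟩ := hL t ht x hx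
      have hxX : x ∈ X := (mem_sdiff.1 hx).1
      have hX' : IsConn G Γ X' := hX.sdiff_cls hJ ht hne'
      have hvX : v ∈ X := (mem_sdiff.1 (cls_subset X' x hv)).1
      have hsub : ∀ a ∈ cls G Γ X' x, cls G Γ X a ⊆ cls G Γ X' x := by
        intro a ha b hb
        refine cls_trans ha (cls_mono sdiff_subset hb ?_)
        have haX' := cls_subset X' x ha
        refine mem_sdiff.2 ⟨cls_subset X a hb, fun hbt => (mem_sdiff.1 haX').2 ?_⟩
        rw [← cls_eq_of_mem hX ht hbt]
        exact cls_symm hX (mem_sdiff.1 haX').1 hb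
      have hdisj : Disjoint (cls G Γ X x) (cls G Γ X v) := by
        rw [disjoint_left]
        intro z hz hz'
        exact hvx (cls_trans hz (cls_symm hX hvX hz'))
      have h2 : (cls G Γ X x).card + (cls G Γ X v).card ≤ (cls G Γ X' x).card := by
        rw [← card_union_of_disjoint hdisj]
        exact card_le_card (union_subset (hsub x (self_mem_cls hx)) (hsub v hv))
      have h3 : X'.card + (cls G Γ X t).card = X.card :=
        card_sdiff_add_card_eq_card (cls_subset X t)
      have h4 := hb x hxX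
      rw [card_cls_eq hX hvX hxX] at h2
      rw [card_cls_eq hX ht hxX] at h3
      omega
    · rw [not_nonempty_iff_eq_empty, sdiff_eq_empty_iff_subset] at hne'
      obtain ⟨g, htg, hg⟩ := hX.1 t ht
      have heq : cls G Γ (avoid G Γ U) t = avoid G Γ U :=
        subset_antisymm (cls_subset _ _) hne'
      have hge : g • Γ = avoid G Γ U := subset_antisymm hg fun y hy =>
        (mem_cls.1 (hne' hy)).2 g hg htg
      have hc := hb t ht
      rw [heq, ← hge, card_smul_finset] at hc
      omega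

/-- Transitivity on `k`-tuples, if every smaller set has connected complement. -/
theorem exists_smul_tuple [IsPreprimitive G Ω] (hJ : IsJordanSet G Γ) (hΓ : 1 < Γ.card) (k : ℕ)
    (hfull : ∀ U : Finset Ω, U.card < k → avoid G Γ U = Uᶜ) :
    ∀ l, l ≤ k → ∀ x y : Fin l ↪ Ω, ∃ g : G, ∀ i, g • x i = y i := by
  intro l
  induction l with
  | zero => exact fun _ _ _ => ⟨1, fun i => i.elim0⟩
  | succ l ih =>
    intro hl x y
    obtain ⟨g, hg⟩ := ih (by omega) (Fin.castSuccEmb.trans x) (Fin.castSuccEmb.trans y)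
    let U := univ.image fun i : Fin l => y i.castSucc
    have hU : U.card < k := by
      have := card_image_le (s := univ) (f := fun i : Fin l => y i.castSucc)
      rw [Finset.card_fin] at this
      show (univ.image fun i : Fin l => y i.castSucc).card < k
      omega
    have h1 : g • x (Fin.last l) ∈ avoid G Γ U := by
      rw [hfull U hU, mem_compl]
      simp only [U, mem_image, mem_univ, true_and, not_exists]
      intro i hi
      have hgi : g • x i.castSucc = y i.castSucc := hg i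
      rw [← hgi, smul_left_cancel_iff, x.apply_eq_iff_eq] at hi
      exact (Fin.castSucc_ne_last i) hi
    have h2 : y (Fin.last l) ∈ avoid G Γ U := by
      rw [hfull U hU, mem_compl]
      simp [U, Fin.castSucc_ne_last]
    obtain ⟨h, hh, hxy⟩ := (avoid_conn hJ hΓ U ⟨_, h2⟩).2 _ h1 _ h2
    refine ⟨h * g, fun i => ?_⟩
    refine Fin.lastCases ?_ (fun i => ?_) i
    · rw [mul_smul, hxy]
    · have hgi : g • x i.castSucc = y i.castSucc := hg i
      rw [mul_smul, hgi]
      exact smul_eq_of_notMem hh fun h' =>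
        disjoint_left.1 (avoid_disjoint U) h' (mem_image_of_mem _ (mem_univ i))

theorem exists_smul_finset {k : ℕ}
    (htup : ∀ x y : Fin k ↪ Ω, ∃ g : G, ∀ i, g • x i = y i) {S S' : Finset Ω}
    (hS : S.card = k) (hS' : S'.card = k) : ∃ g : G, g • S = S' := by
  let x : Fin k ↪ Ω := (S.equivFinOfCardEq hS).symm.toEmbedding.trans (Function.Embedding.subtype _)
  let y : Fin k ↪ Ω :=
    (S'.equivFinOfCardEq hS').symm.toEmbedding.trans (Function.Embedding.subtype _)
  obtain ⟨g, hg⟩ := htup x y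
  refine ⟨g, eq_of_subset_of_card_le (fun z hz => ?_) (by rw [card_smul_finset, hS, hS'])⟩
  obtain ⟨w, hw, rfl⟩ := mem_smul_finset.1 hz
  have := hg (S.equivFinOfCardEq hS ⟨w, hw⟩)
  simp [x, y] at this
  rw [this]
  exact Subtype.coe_prop _

/-- If `j + 1` points are independent and every `j`-set spans `q` further points, then the deleted
class has at least `j * q + 1` points. -/
theorem avoid_card_insert [IsPreprimitive G Ω] (hJ : IsJordanSet G Γ) (hΓ : 1 < Γ.card) {j : ℕ}
    (hfull : ∀ U : Finset Ω, U.card < j → avoid G Γ U = Uᶜ) {S : Finset Ω} (hS : S.card = j)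
    (hunif : ∀ S' : Finset Ω, S'.card = j → (avoid G Γ S').card = (avoid G Γ S).card)
    {t : Ω} (ht : t ∈ avoid G Γ S) (hj : 1 ≤ j) :
    (avoid G Γ (insert t S)).card + (j + 1) + (j + 1) * (Fintype.card Ω - j - (avoid G Γ S).card) ≤
      Fintype.card Ω := by
  classical
  set q := Fintype.card Ω - j - (avoid G Γ S).card
  have htS : t ∉ S := disjoint_left.1 (avoid_disjoint S) ht
  set T := insert t S with hTdef
  have hT : T.card = j + 1 := by rw [hTdef, card_insert_of_notMem htS, hS]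
  have hind : ∀ s ∈ T, s ∈ avoid G Γ (T.erase s) := by
    intro s hs
    rcases mem_insert.1 hs with rfl | hsS
    · rwa [hTdef, erase_insert htS]
    have hst : s ≠ t := fun h => htS (h ▸ hsS)
    set R := S.erase s
    have hR : R.card < j := by rw [← hS]; exact card_erase_lt_of_mem hsS
    have hXR := hfull R hR
    have htR : t ∈ avoid G Γ R := avoid_anti (erase_subset s S) ht
    have hsR : s ∈ avoid G Γ R := by rw [hXR]; simp [R]
    have hcR := avoid_conn hJ hΓ R ⟨t, htR⟩
    have e1 : T.erase s = insert t R := by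
      rw [hTdef, erase_insert_of_ne (Ne.symm hst)]
    have e2 : S = insert s R := (insert_erase hsS).symm
    rw [e1, avoid_insert hcR htR, mem_sdiff]
    rw [e2, avoid_insert hcR hsR, mem_sdiff] at ht
    exact ⟨hsR, fun h => ht.2 (cls_symm hcR htR h)⟩
  let Z : Ω → Finset Ω := fun s => (avoid G Γ (T.erase s) ∪ T.erase s)ᶜ
  have hZcard : ∀ s ∈ T, (Z s).card = q := by
    intro s hs
    have hcard : (T.erase s).card = j := by rw [card_erase_of_mem hs, hT]; rfl
    show (avoid G Γ (T.erase s) ∪ T.erase s)ᶜ.card = q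
    rw [card_compl, card_union_of_disjoint (avoid_disjoint _), hcard, hunif _ hcard]
    omega
  have hdisj : Set.PairwiseDisjoint (T : Set Ω) Z := by
    intro s hs s' hs' hne
    rw [Function.onFun, disjoint_left]
    intro z hz hz'
    simp only [Z, mem_compl, mem_union, not_or] at hz hz'
    set R := (T.erase s).erase s'
    have hs'' : s' ∈ T.erase s := mem_erase.2 ⟨Ne.symm hne, hs'⟩
    have hsmem : s ∈ T.erase s' := mem_erase.2 ⟨hne, hs⟩
    have hR : R.card < j := by
      rw [card_erase_of_mem hs'', card_erase_of_mem hs, hT]; omega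
    have hXR := hfull R hR
    have hsR : s ∈ avoid G Γ R := by rw [hXR]; simp [R]
    have hs'R : s' ∈ avoid G Γ R := by rw [hXR]; simp [R]
    have hcR := avoid_conn hJ hΓ R ⟨s, hsR⟩
    have e1 : T.erase s = insert s' R := (insert_erase hs'').symm
    have e2 : T.erase s' = insert s R := by
      rw [show R = (T.erase s').erase s from erase_right_comm, insert_erase hsmem]
    have hzR : z ∈ avoid G Γ R := by
      rw [hXR, mem_compl]
      exact fun h => hz.2 (mem_of_mem_erase h)
    have h1 : z ∈ cls G Γ (avoid G Γ R) s' := by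
      by_contra h
      exact hz.1 (by rw [e1, avoid_insert hcR hs'R]; exact mem_sdiff.2 ⟨hzR, h⟩)
    have h2 : z ∈ cls G Γ (avoid G Γ R) s := by
      by_contra h
      exact hz'.1 (by rw [e2, avoid_insert hcR hsR]; exact mem_sdiff.2 ⟨hzR, h⟩)
    have h3 := hind s hs
    rw [e1, avoid_insert hcR hs'R, mem_sdiff] at h3
    exact h3.2 (cls_trans h1 (cls_symm hcR hsR h2))
  have hdisj2 : Disjoint (avoid G Γ T ∪ T) (T.biUnion Z) := by
    rw [disjoint_left]
    intro z hz hz'
    obtain ⟨s, hs, hzs⟩ := mem_biUnion.1 hz'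
    simp only [Z, mem_compl, mem_union, not_or] at hzs
    rcases mem_union.1 hz with h | h
    · exact hzs.1 (avoid_anti (erase_subset s T) h)
    · by_cases hzeq : z = s
      · subst hzeq
        exact hzs.1 (hind z hs)
      · exact hzs.2 (mem_erase.2 ⟨hzeq, h⟩)
  have := card_le_univ ((avoid G Γ T ∪ T) ∪ T.biUnion Z)
  rw [card_union_of_disjoint hdisj2, card_union_of_disjoint (avoid_disjoint T),
    card_biUnion hdisj, sum_congr rfl hZcard, sum_const, hT, smul_eq_mul] at this
  exact this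

/-- The key dichotomy: a large Jordan complement forces high transitivity. -/
theorem exists_high_transitivity [IsPreprimitive G Ω] (hJ : IsJordanSet G Γ) (hΓ : 1 < Γ.card)
    (hhalf : 2 * Γ.card ≤ Fintype.card Ω) :
    ∃ j, 3 ≤ j ∧ (2 * Γ.card < Fintype.card Ω → Γ.card ≤ j) ∧
      ∀ l, l ≤ j → ∀ x y : Fin l ↪ Ω, ∃ g : G, ∀ i, g • x i = y i := by
  classical
  have hlt : Γ.card < Fintype.card Ω := by omega
  have hbad : ∃ j, ∃ U : Finset Ω, U.card = j ∧ avoid G Γ U ≠ Uᶜ := by
    obtain ⟨a, ha, b, hb, hab⟩ := one_lt_card.1 hΓ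
    refine ⟨_, insert a Γᶜ, rfl, fun h => ?_⟩
    have hbX : b ∈ avoid G Γ (insert a Γᶜ) := by
      rw [h, mem_compl, mem_insert, mem_compl]
      simp [Ne.symm hab, hb]
    obtain ⟨g, hbg, hg⟩ := mem_avoid.1 hbX
    rw [disjoint_insert_right] at hg
    refine hg.1 ?_
    rw [eq_of_subset_of_card_le (fun z hz => by simpa using disjoint_left.1 hg.2 hz)
      (card_smul_finset g Γ).ge]
    exact ha
  set j := Nat.find hbad
  have hfull : ∀ U : Finset Ω, U.card < j → avoid G Γ U = Uᶜ := fun U hU => by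
    by_contra h
    exact Nat.find_min hbad hU ⟨U, rfl, h⟩
  have htup := exists_smul_tuple hJ hΓ j hfull
  obtain ⟨U₀, hU₀, hU₀ne⟩ := Nat.find_spec hbad
  have hcards : ∀ S : Finset Ω, S.card = j →
      (avoid G Γ S).card = (avoid G Γ U₀).card := by
    intro S hS
    obtain ⟨g, rfl⟩ := exists_smul_finset (htup j le_rfl) hU₀ hS
    rw [avoid_smul, card_smul_finset]
  have hq : (avoid G Γ U₀).card + j < Fintype.card Ω := by
    have hss : avoid G Γ U₀ ⊂ U₀ᶜ :=
      ssubset_of_subset_of_ne (subset_compl_iff_disjoint_right.2 (avoid_disjoint U₀)) hU₀ne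
    have := card_lt_card hss
    rw [card_compl, hU₀] at this
    omega
  have hj2 : 2 ≤ j := by
    by_contra h
    apply hU₀ne
    rcases (show j = 0 ∨ j = 1 by omega) with h0 | h1
    · rw [card_eq_zero.1 (hU₀.trans h0), avoid_empty (card_pos.1 (by omega)), compl_empty]
    · obtain ⟨a, rfl⟩ := card_eq_one.1 (hU₀.trans h1)
      have he := avoid_empty (G := G) (Γ := Γ) (card_pos.1 (by omega))
      have hc : IsConn G Γ (avoid G Γ (∅ : Finset Ω)) := by rw [he]; exact isConn_univ hJ hΓ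
      rw [show ({a} : Finset Ω) = insert a ∅ from rfl, avoid_insert hc (by rw [he]; simp), he,
        cls_univ hJ hΓ hlt]
      simp [compl_eq_univ_sdiff]
  -- if `j < #Γ` the geometry bounds the complement
  have main : j + Γ.card ≤ Fintype.card Ω →
      Fintype.card Ω + (if j = 2 then 1 else 0) ≤ 2 * Γ.card := by
    intro hjm
    obtain ⟨S, hSsub, hS⟩ := exists_subset_card_eq (s := Γᶜ) (n := j) (by rw [card_compl]; omega)
    have hΓS : Γ ⊆ avoid G Γ S := by
      have h := subset_avoid (G := G) (Γ := Γ) (U := S) (g := 1)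
        (by rw [one_smul]; exact disjoint_left.2 fun x hx hxS => mem_compl.1 (hSsub hxS) hx)
      rwa [one_smul] at h
    have hSne : (avoid G Γ S).Nonempty := (card_pos.1 (show 0 < Γ.card by omega)).mono hΓS
    -- lines below the first closed level
    have hlines : ∀ V : Finset Ω, V.card + 2 = j → HasLines G Γ (avoid G Γ V) := by
      intro V hV w hw u hu
      have hcV := avoid_conn hJ hΓ V ⟨w, hw⟩
      have hXV := hfull V (by omega)
      have hwV : w ∉ V := disjoint_left.1 (avoid_disjoint V) hw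
      have h1 : avoid G Γ (insert w V) = (insert w V)ᶜ :=
        hfull _ (by rw [card_insert_of_notMem hwV]; omega)
      have hins := avoid_insert hcV hw
      rw [← hins] at hu ⊢
      have hcw := avoid_conn hJ hΓ _ ⟨u, hu⟩
      have huV : u ∉ insert w V := disjoint_left.1 (avoid_disjoint _) hu
      by_contra hcon
      push Not at hcon
      have hu1 : cls G Γ (avoid G Γ V) u ⊆ {u} := by
        intro z hz
        rw [mem_singleton]
        by_contra hzu
        have huX : u ∈ avoid G Γ V := avoid_anti (subset_insert w V) hu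
        have h2 : avoid G Γ (insert u V) = (insert u V)ᶜ :=
          hfull _ (by rw [card_insert_of_notMem (fun h => huV (mem_insert_of_mem h))]; omega)
        rw [avoid_insert hcV huX, hXV] at h2
        have : z ∈ (insert u V)ᶜ := by
          rw [mem_compl, mem_insert, not_or]
          exact ⟨hzu, fun h => disjoint_left.1 (avoid_disjoint V) (cls_subset _ _ hz) h⟩
        rw [← h2, mem_sdiff, ← hXV] at this
        exact this.2 hz
      have hsub : cls G Γ (avoid G Γ (insert w V)) u = {u} :=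
        subset_antisymm (fun z hz => hu1 (hcon z hz)) (singleton_subset_iff.2 (self_mem_cls hu))
      have hcard2 : (insert u (insert w V)).card = j := by
        rw [card_insert_of_notMem huV, card_insert_of_notMem hwV]; omega
      have h3 := hcards _ hcard2
      rw [avoid_insert hcw hu, hsub, h1, sdiff_singleton_eq_erase,
        card_erase_of_mem (mem_compl.2 huV), card_compl, card_insert_of_notMem hwV] at h3
      omega
    by_cases hj : j = 2
    · rw [if_pos hj]
      have he := avoid_empty (G := G) (Γ := Γ) (card_pos.1 (show 0 < Γ.card by omega))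
      refine card_add_le_two_mul hJ hΓ 1 ∅ (by rw [he]; exact card_pos.1 (by rw [card_univ]; omega))
        (hlines ∅ (by rw [card_empty, hj])) fun x _ => ?_
      rw [he, card_univ, cls_univ hJ hΓ hlt, card_singleton]
    · rw [if_neg hj]
      have hLS : HasLines G Γ (avoid G Γ S) := by
        obtain ⟨a, ha⟩ := card_pos.1 (show 0 < S.card by omega)
        obtain ⟨b, hb⟩ := card_pos.1 (show 0 < (S.erase a).card by
          rw [card_erase_of_mem ha]; omega)
        set V := (S.erase a).erase b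
        have hV : V.card + 2 = j := by
          rw [card_erase_of_mem hb, card_erase_of_mem ha]; omega
        have hbX : b ∈ avoid G Γ V := by rw [hfull V (by omega)]; simp [V]
        have hcV := avoid_conn hJ hΓ V ⟨b, hbX⟩
        have e1 : S.erase a = insert b V := (insert_erase hb).symm
        have hins := avoid_insert hcV hbX
        have hL1 := (hlines V hV).sdiff hJ hcV hbX
        rw [← hins, ← e1] at hL1
        have haX : a ∈ avoid G Γ (S.erase a) := by
          rw [hfull _ (by rw [card_erase_of_mem ha]; omega)]; simp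
        have hc1 := avoid_conn hJ hΓ _ ⟨a, haX⟩
        have hL2 := hL1.sdiff hJ hc1 haX
        rwa [← avoid_insert hc1 haX, insert_erase ha] at hL2
      refine card_add_le_two_mul hJ hΓ 0 S hSne hLS fun x hx => ?_
      have hcS := avoid_conn hJ hΓ S hSne
      have hb := avoid_card_insert hJ hΓ hfull hS (fun S' hS' => (hcards S' hS').trans
        (hcards S hS).symm) hx (by omega)
      rw [avoid_insert hcS hx] at hb
      have h3 := card_sdiff_add_card_eq_card (cls_subset (G := G) (Γ := Γ) (avoid G Γ S) x)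
      have h4 := hcards S hS
      obtain ⟨q, hq'⟩ : ∃ q, Fintype.card Ω - j - (avoid G Γ S).card = q + 1 :=
        ⟨Fintype.card Ω - j - (avoid G Γ S).card - 1, by omega⟩
      rw [hq'] at hb
      have : j + (q + 1) ≤ j * (q + 1) + 1 := by
        obtain ⟨j', hj'⟩ : ∃ j', j = j' + 2 := ⟨j - 2, by omega⟩
        rw [hj']; ring_nf; nlinarith [Nat.zero_le (j' * q)]
      have : (j + 1) * (q + 1) = j * (q + 1) + (q + 1) := by ring
      omega
  refine ⟨j, ?_, fun hstrict => ?_, htup⟩
  · by_contra h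
    have hj : j = 2 := by omega
    have := main (by omega)
    rw [if_pos hj] at this
    omega
  · by_contra h
    have := main (by omega)
    split_ifs at this <;> omega

/-- Two translates meeting in one point give a 3-cycle. -/
theorem exists_isThreeCycle {g : G} {a : Ω} (hJ : IsJordanSet G Γ) (hΓ : 1 < Γ.card)
    (hinter : Γ ∩ g • Γ = {a}) :
    ∃ c : G, (MulAction.toPerm c : Equiv.Perm Ω).IsThreeCycle := by
  classical
  obtain ⟨haΓ, hag⟩ := mem_inter.1 (hinter.symm ▸ mem_singleton_self a : a ∈ Γ ∩ g • Γ)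
  have honly : ∀ z, z ∈ Γ → z ∈ g • Γ → z = a := fun z h1 h2 =>
    mem_singleton.1 (hinter ▸ mem_inter.2 ⟨h1, h2⟩)
  obtain ⟨x, hx, hxa⟩ := exists_mem_ne hΓ a
  obtain ⟨y, hy, hya⟩ := exists_mem_ne (show 1 < (g • Γ).card by rwa [card_smul_finset]) a
  obtain ⟨h, hh, hax⟩ := hJ a haΓ x hx
  obtain ⟨k, hk, hay⟩ := isJordanSet_smul hJ g a hag y hy
  have stay : ∀ (l : G) (P : Finset Ω), (∀ z, z ∉ P → l • z = z) → ∀ z ∈ P,
      l • z ∈ P ∧ l⁻¹ • z ∈ P := by
    intro l P hl z hz
    constructor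
    · by_contra hn
      have := hl _ hn
      rw [smul_left_cancel_iff] at this
      exact hn (this.symm ▸ hz)
    · by_contra hn
      have := hl _ hn
      rw [smul_inv_smul] at this
      exact hn (this ▸ hz)
  have hinv : ∀ (l : G) (P : Finset Ω), (∀ z, z ∉ P → l • z = z) → ∀ z, z ∉ P → l⁻¹ • z = z :=
    fun l P hl z hz => inv_smul_eq_iff.2 (hl z hz).symm
  have hyΓ : y ∉ Γ := fun h' => hya (honly y h' hy)
  have hxg : x ∉ g • Γ := fun h' => hxa (honly x hx h')
  set c := h * k * h⁻¹ * k⁻¹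
  have hc : ∀ z : Ω, c • z = h • k • h⁻¹ • k⁻¹ • z := fun z => by simp [c, mul_smul]
  have hca : c • a = x := by
    have h1 : k⁻¹ • a ∈ g • Γ := (stay k _ hk a hag).2
    have h2 : k⁻¹ • a ≠ a := fun e => hya (by rw [← hay]; exact (inv_smul_eq_iff.1 e).symm)
    have h3 : k⁻¹ • a ∉ Γ := fun h' => h2 (honly _ h' h1)
    rw [hc, hinv h Γ hh _ h3, smul_inv_smul, hax]
  have hcx : c • x = y := by
    rw [hc, hinv k _ hk x hxg, inv_smul_eq_iff.2 hax.symm, hay, hh y hyΓ]
  have hcy : c • y = a := by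
    have h1 : h⁻¹ • a ∈ Γ := (stay h _ hh a haΓ).2
    have h2 : h⁻¹ • a ≠ a := fun e => hxa (by rw [← hax]; exact (inv_smul_eq_iff.1 e).symm)
    have h3 : h⁻¹ • a ∉ g • Γ := fun h' => h2 (honly _ h1 h')
    rw [hc, inv_smul_eq_iff.2 hay.symm, hk _ h3, smul_inv_smul]
  have hcz : ∀ z, z ≠ a → z ≠ x → z ≠ y → c • z = z := by
    intro z hza hzx hzy
    rw [hc]
    by_cases hzΓ : z ∈ Γ
    · have hzg : z ∉ g • Γ := fun h' => hza (honly z hzΓ h')
      have h1 : h⁻¹ • z ∈ Γ := (stay h _ hh z hzΓ).2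
      have h2 : h⁻¹ • z ≠ a := fun e => hzx (by rw [← hax, ← e, smul_inv_smul])
      have h3 : h⁻¹ • z ∉ g • Γ := fun h' => h2 (honly _ h1 h')
      rw [hinv k _ hk z hzg, hk _ h3, smul_inv_smul]
    by_cases hzg : z ∈ g • Γ
    · have h1 : k⁻¹ • z ∈ g • Γ := (stay k _ hk z hzg).2
      have h2 : k⁻¹ • z ≠ a := fun e => hzy (by rw [← hay, ← e, smul_inv_smul])
      have h3 : k⁻¹ • z ∉ Γ := fun h' => h2 (honly _ h' h1)
      rw [hinv h _ hh _ h3, smul_inv_smul, hh z hzΓ]
    · rw [hinv k _ hk z hzg, hinv h _ hh z hzΓ, hk z hzg, hh z hzΓ]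
  have hxy : x ≠ y := fun e => hyΓ (e ▸ hx)
  refine ⟨c, card_support_eq_three_iff.1 ?_⟩
  have : (MulAction.toPerm c : Equiv.Perm Ω).support = {a, x, y} := by
    ext z
    simp only [Equiv.Perm.mem_support, MulAction.toPerm_apply, mem_insert, mem_singleton]
    constructor
    · intro hz
      by_contra h'
      push Not at h'
      exact hz (hcz z h'.1 h'.2.1 h'.2.2)
    · rintro (rfl | rfl | rfl)
      · rw [hca]; exact hxa
      · rw [hcx]; exact Ne.symm hxy
      · rw [hcy]; exact Ne.symm hya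
  rw [this, card_insert_of_notMem (by simp [Ne.symm hxa, Ne.symm hya]), card_pair hxy]

/-- **Marggraf's theorem**. -/
theorem forall_even_mem_of_jordanSet [IsPreprimitive G Ω] (hJ : IsJordanSet G Γ)
    (hΓ : 1 < Γ.card) (hhalf : 2 * Γ.card < Fintype.card Ω) :
    ∀ σ : Equiv.Perm Ω, Equiv.Perm.sign σ = 1 →
      ∃ g : G, (MulAction.toPerm g : Equiv.Perm Ω) = σ := by
  classical
  obtain ⟨j, -, hmj, htup⟩ := exists_high_transitivity (G := G) hJ hΓ hhalf.le
  obtain ⟨a, ha⟩ := card_pos.1 (show 0 < Γ.card by omega)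
  obtain ⟨D, hDsub, hD⟩ :=
    exists_subset_card_eq (s := Γᶜ) (n := Γ.card - 1) (by rw [card_compl]; omega)
  have haD : a ∉ D := fun h => mem_compl.1 (hDsub h) ha
  obtain ⟨g, hg⟩ := exists_smul_finset (htup Γ.card (hmj hhalf)) (S' := insert a D) rfl
    (by rw [card_insert_of_notMem haD, hD]; omega)
  have hinter : Γ ∩ g • Γ = {a} := by
    rw [hg]
    ext z
    simp only [mem_inter, mem_insert, mem_singleton]
    exact ⟨fun ⟨h1, h2⟩ => h2.resolve_right fun h => mem_compl.1 (hDsub h) h1,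
      fun h => ⟨h ▸ ha, Or.inl h⟩⟩
  obtain ⟨c, hc⟩ := exists_isThreeCycle hJ hΓ hinter
  set H := (MulAction.toPermHom G Ω).range
  have hprim : IsPreprimitive H Ω := by
    let f : Ω →ₑ[(MulAction.toPermHom G Ω).rangeRestrict] Ω :=
      { toFun := id, map_smul' := fun _ _ => rfl }
    exact IsPreprimitive.of_surjective (f := f) Function.surjective_id
  have hA := Equiv.Perm.alternatingGroup_le_of_isPreprimitive_of_isThreeCycle_mem hprim hc
    ⟨c, rfl⟩
  exact fun σ hσ => hA (Equiv.Perm.mem_alternatingGroup.2 hσ)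

/-- A primitive group with a Jordan set of at most half the points is 3-transitive. -/
theorem isMultiplyPretransitive_three_of_jordanSet [IsPreprimitive G Ω] (hJ : IsJordanSet G Γ)
    (hΓ : 1 < Γ.card) (hhalf : 2 * Γ.card ≤ Fintype.card Ω) :
    IsMultiplyPretransitive G Ω 3 := by
  obtain ⟨j, hj, -, htup⟩ := exists_high_transitivity (G := G) hJ hΓ hhalf
  exact isMultiplyPretransitive_iff.2 fun {x y} => by
    obtain ⟨g, hg⟩ := htup 3 hj x y
    exact ⟨g, Function.Embedding.ext fun i => by simpa using hg i⟩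

end Primitive

end CfsgLib.Perm59
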