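import Cfsg.Agent.Perm59.Marggraf

/-!
# Jordan sets in quasiprimitive groups

A faithful quasiprimitive group with a Jordan set of fewer than half the points induces every even
permutation, and one with a primitive Jordan set is primitive.
-/

namespace CfsgLib.Perm59

open MulAction Finset

open scoped Pointwise

variable {G Ω : Type*} [Group G] [MulAction G Ω] [Fintype Ω] [DecidableEq Ω] {Γ : Finset Ω}

set_option linter.unusedSectionVars false

/-- The sign-one kernel conjugation lemma: two 3-cycles with the same support. -/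
theorem mem_of_threeCycle_conj {α : Type*} [Fintype α] [DecidableEq α] (D : Subgroup (Equiv.Perm α))
    {q x y z : α} (hxy : x ≠ y) (hxz : x ≠ z) (hyz : y ≠ z) (hxq : x ≠ q) (hyq : y ≠ q)
    (hzq : z ≠ q) (hD : Equiv.swap x y * Equiv.swap y z ∈ D)
    (hnorm : ∀ f : Equiv.Perm α, Equiv.Perm.sign f = 1 → f q = q → ∀ d ∈ D, f * d * f⁻¹ ∈ D)
    {u v w : α} (huv : u ≠ v) (huw : u ≠ w) (hvw : v ≠ w) (huq : u ≠ q) (hvq : v ≠ q)
    (hwq : w ≠ q) : Equiv.swap u v * Equiv.swap v w ∈ D := by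
  classical
  obtain ⟨f, hf⟩ := Equiv.Perm.exists_extending_pair ![x, y, z, q] ![u, v, w, q] (by
      intro i j h
      fin_cases i <;> fin_cases j <;> simp_all [eq_comm])
    (by
      intro i j h
      fin_cases i <;> fin_cases j <;> simp_all [eq_comm])
  have hfx : f x = u := hf 0
  have hfy : f y = v := hf 1
  have hfz : f z = w := hf 2
  have hfq : f q = q := hf 3
  rcases Int.units_eq_one_or (Equiv.Perm.sign f) with hs | hs
  · have h := hnorm f hs hfq _ hD
    rwa [show f * (Equiv.swap x y * Equiv.swap y z) * f⁻¹ =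
        (f * Equiv.swap x y * f⁻¹) * (f * Equiv.swap y z * f⁻¹) by group,
      ← Equiv.swap_apply_apply, ← Equiv.swap_apply_apply, hfx, hfy, hfz] at h
  · set f' := Equiv.swap u w * f
    have hs' : Equiv.Perm.sign f' = 1 := by
      simp [f', hs, Equiv.Perm.sign_swap huw]
    have hfq' : f' q = q := by simp [f', hfq, Equiv.swap_apply_of_ne_of_ne huq.symm hwq.symm]
    have h := hnorm f' hs' hfq' _ hD
    rw [show f' * (Equiv.swap x y * Equiv.swap y z) * f'⁻¹ =
        (f' * Equiv.swap x y * f'⁻¹) * (f' * Equiv.swap y z * f'⁻¹) by group,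
      ← Equiv.swap_apply_apply, ← Equiv.swap_apply_apply,
      show f' x = w by simp [f', hfx],
      show f' y = v by simp [f', hfy, Equiv.swap_apply_of_ne_of_ne huv.symm hvw],
      show f' z = u by simp [f', hfz]] at h
    have h' := inv_mem h
    rwa [mul_inv_rev, Equiv.swap_inv, Equiv.swap_inv, Equiv.swap_comm v u,
      Equiv.swap_comm w v] at h'

/-- In a faithful quasiprimitive group no fibre of a nonconstant equivariant map holds a Jordan set,
and every fibre is inside the Jordan set or disjoint from it. -/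
theorem fibre_dichotomy [FaithfulSMul G Ω]
    (hqp : ∀ N : Subgroup G, N.Normal → N ≠ ⊥ → IsPretransitive N Ω)
    (hJ : IsJordanSet G Γ) (hΓ : 1 < Γ.card) {Q : Type*} [MulAction G Q] (π : Ω → Q)
    (hπ : ∀ (g : G) (x : Ω), π (g • x) = g • π x) (hnc : ∃ x y, π x ≠ π y) :
    (¬ ∃ q, ∀ x ∈ Γ, π x = q) ∧ ∀ x ∈ Γ, ∀ y, π y = π x → y ∈ Γ := by
  have key : ∀ h : G, (∀ x, π (h • x) = π x) → h = 1 := by
    intro h hh
    let N : Subgroup G :=
      { carrier := {g | ∀ x, π (g • x) = π x}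
        one_mem' := fun x => by rw [one_smul]
        mul_mem' := fun {a b} ha hb x => by rw [mul_smul, ha, hb]
        inv_mem' := fun {a} ha x => by simpa using (ha (a⁻¹ • x)).symm }
    have hN : N.Normal := ⟨fun n hn g x => by
      rw [mul_smul, mul_smul, hπ, hn, ← hπ, smul_inv_smul]⟩
    by_contra h1
    have hNb : N ≠ ⊥ := fun hb => h1 (by
      have : h ∈ N := hh
      rwa [hb, Subgroup.mem_bot] at this)
    obtain ⟨x, y, hxy⟩ := hnc
    have := hqp N hN hNb
    obtain ⟨⟨n, hn⟩, hnx⟩ := exists_smul_eq N x y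
    exact hxy (by rw [← hnx]; exact (hn x).symm)
  have hin : ¬ ∃ q, ∀ x ∈ Γ, π x = q := by
    rintro ⟨q, hq⟩
    obtain ⟨a, ha, b, hb, hab⟩ := one_lt_card.1 hΓ
    obtain ⟨h, hh, hhab⟩ := hJ a ha b hb
    have : h = 1 := key h fun x => by
      by_cases hx : x ∈ Γ
      · have hx' : h • x ∈ Γ := by
          by_contra hn
          have h' := hh _ hn
          rw [smul_left_cancel_iff] at h'
          exact hn (h'.symm ▸ hx)
        rw [hq _ hx', hq _ hx]
      · rw [hh x hx]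
    rw [this, one_smul] at hhab
    exact hab hhab
  refine ⟨hin, fun x hx y hy => ?_⟩
  by_contra hyΓ
  refine hin ⟨π x, fun z hz => ?_⟩
  obtain ⟨h, hh, hxz⟩ := hJ x hx z hz
  rw [← hxz, hπ, ← hy, ← hπ, hh y hyΓ]

/-- Fibres of an equivariant map from a transitive set have one size. -/
theorem card_filter_fibre [IsPretransitive G Ω] {Q : Type*} [MulAction G Q] [DecidableEq Q]
    (π : Ω → Q) (hπ : ∀ (g : G) (x : Ω), π (g • x) = g • π x) (x y : Ω) :
    (univ.filter fun z => π z = π x).card = (univ.filter fun z => π z = π y).card := by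
  obtain ⟨g, rfl⟩ := exists_smul_eq G x y
  rw [← card_smul_finset g (univ.filter fun z => π z = π x)]
  congr 1
  ext z
  rw [← inv_smul_mem_iff]
  simp only [mem_filter, mem_univ, true_and, hπ, inv_smul_eq_iff]

/-- An equivariant surjection onto a primitive set, from a maximal subgroup over a point stabiliser. -/
theorem exists_primitive_quotient [Finite G] [IsPretransitive G Ω] [Nontrivial Ω] (a : Ω) :
    ∃ M : Subgroup G, IsCoatom M ∧ ∃ π : Ω → G ⧸ M,
      (∀ (g : G) (x : Ω), π (g • x) = g • π x) ∧ π a = ((1 : G) : G ⧸ M) := by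
  have hne : stabilizer G a ≠ ⊤ := by
    intro h
    obtain ⟨b, hb⟩ := exists_ne a
    obtain ⟨g, hg⟩ := exists_smul_eq G a b
    have hga : g ∈ stabilizer G a := h ▸ Subgroup.mem_top g
    exact hb (by rw [← hg, mem_stabilizer_iff.1 hga])
  obtain ⟨M, hM, hle⟩ := (eq_top_or_exists_le_coatom (stabilizer G a)).resolve_left hne
  choose c hc using fun x => exists_smul_eq G a x
  have key : ∀ (g : G) (x : Ω), g • a = x → ((c x : G) : G ⧸ M) = (g : G ⧸ M) := fun g x hg =>
    QuotientGroup.eq.2 (hle (by rw [mem_stabilizer_iff, mul_smul, hg, inv_smul_eq_iff, hc]))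
  refine ⟨M, hM, fun x => (c x : G ⧸ M), fun g x => ?_, key 1 a (one_smul G a)⟩
  show (c (g • x) : G ⧸ M) = g • (c x : G ⧸ M)
  rw [key (g * c x) _ (by rw [mul_smul, hc]), Quotient.smul_coe, smul_eq_mul]

/-- A maximal subgroup gives a primitive coset action. -/
theorem isPreprimitive_quotient [Finite G] {M : Subgroup G} (hM : IsCoatom M) :
    IsPreprimitive G (G ⧸ M) := by
  have : Nontrivial (G ⧸ M) := by
    rw [← Finite.one_lt_card_iff_nontrivial]
    exact Subgroup.one_lt_index_of_ne_top hM.1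
  rw [← isCoatom_stabilizer_iff_preprimitive G ((1 : G) : G ⧸ M), stabilizer_quotient]
  exact hM

/-- Marggraf's theorem for quasiprimitive groups. -/
theorem forall_even_mem_of_quasiprimitive [Finite G] [FaithfulSMul G Ω]
    (hqp : ∀ N : Subgroup G, N.Normal → N ≠ ⊥ → IsPretransitive N Ω)
    (hJ : IsJordanSet G Γ) (hΓ : 1 < Γ.card) (hhalf : 2 * Γ.card < Fintype.card Ω) :
    ∀ σ : Equiv.Perm Ω, Equiv.Perm.sign σ = 1 →
      ∃ g : G, (MulAction.toPerm g : Equiv.Perm Ω) = σ := by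
  classical
  obtain ⟨a₀, ha₀, b₀, hb₀, hab₀⟩ := one_lt_card.1 hΓ
  obtain ⟨h₀, hh₀, hh₀ab⟩ := hJ a₀ ha₀ b₀ hb₀
  have : IsPretransitive G Ω := by
    have := hqp ⊤ inferInstance (fun h => hab₀ (by
      have : h₀ ∈ (⊤ : Subgroup G) := trivial
      rw [h, Subgroup.mem_bot] at this
      rwa [this, one_smul] at hh₀ab))
    exact ⟨fun x y => by
      obtain ⟨g, hg⟩ := exists_smul_eq (⊤ : Subgroup G) x y
      exact ⟨(g : G), hg⟩⟩
  obtain ⟨a, ha⟩ : ∃ a, a ∉ Γ := by
    by_contra h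
    push Not at h
    have := card_le_card (fun x _ => h x : (univ : Finset Ω) ⊆ Γ)
    rw [card_univ] at this
    omega
  have : Nontrivial Ω := ⟨⟨a₀, b₀, hab₀⟩⟩
  obtain ⟨M, hM, π, hπ, hπa⟩ := exists_primitive_quotient (G := G) a
  have := isPreprimitive_quotient hM
  have : Fintype (G ⧸ M) := Fintype.ofFinite _
  have hsurj : Function.Surjective π := by
    intro q
    induction q using QuotientGroup.induction_on with
    | H g => exact ⟨g • a, by rw [hπ, hπa, Quotient.smul_coe, smul_eq_mul, mul_one]⟩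
  have hnc : ∃ x y, π x ≠ π y := by
    have : Nontrivial (G ⧸ M) := by
      rw [← Finite.one_lt_card_iff_nontrivial]
      exact Subgroup.one_lt_index_of_ne_top hM.1
    obtain ⟨p, q, hpq⟩ := exists_pair_ne (G ⧸ M)
    obtain ⟨x, rfl⟩ := hsurj p
    obtain ⟨y, rfl⟩ := hsurj q
    exact ⟨x, y, hpq⟩
  obtain ⟨hin, hclosed⟩ := fibre_dichotomy hqp hJ hΓ π hπ hnc
  set b := (univ.filter fun z => π z = π a).card
  have hfib : ∀ x, (univ.filter fun z => π z = π x).card = b := fun x => card_filter_fibre π hπ x a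
  set Γ' := Γ.image π
  have hcardΓ : Γ.card = Γ'.card * b := by
    refine card_eq_sum_card_image π Γ |>.trans ?_
    rw [sum_const_nat (m := b)]
    intro q hq
    obtain ⟨x, hx, rfl⟩ := mem_image.1 hq
    rw [← hfib x]
    congr 1
    ext z
    simp only [mem_filter, mem_univ, true_and]
    exact ⟨fun h => h.2, fun h => ⟨hclosed x hx z h, h⟩⟩
  have hcardΩ : Fintype.card Ω = Fintype.card (G ⧸ M) * b := by
    rw [← card_univ, ← card_univ, ← image_univ_of_surjective hsurj]
    refine card_eq_sum_card_image π univ |>.trans ?_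
    rw [sum_const_nat (m := b)]
    intro q hq
    obtain ⟨x, -, rfl⟩ := mem_image.1 hq
    exact hfib x
  have hΓ' : 1 < Γ'.card := by
    by_contra hle
    push Not at hle
    refine hin ⟨π a₀, fun x hx => ?_⟩
    exact card_le_one.1 hle _ (mem_image_of_mem _ hx) _ (mem_image_of_mem _ ha₀)
  have hhalf' : 2 * Γ'.card < Fintype.card (G ⧸ M) := by
    rw [hcardΓ, hcardΩ, ← mul_assoc] at hhalf
    exact lt_of_mul_lt_mul_right hhalf (Nat.zero_le b)
  have hout : ∀ z, π z ∉ Γ' → z ∉ Γ := fun z hz h => hz (mem_image_of_mem _ h)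
  have hJ' : IsJordanSet G Γ' := by
    intro p hp r hr
    obtain ⟨x, hx, rfl⟩ := mem_image.1 hp
    obtain ⟨y, hy, rfl⟩ := mem_image.1 hr
    obtain ⟨h, hh, hxy⟩ := hJ x hx y hy
    refine ⟨h, fun z hz => ?_, by rw [← hπ, hxy]⟩
    obtain ⟨w, rfl⟩ := hsurj z
    rw [← hπ, hh w (hout w hz)]
  have heven := forall_even_mem_of_jordanSet (G := G) hJ' hΓ' hhalf'
  have hfaith : ∀ g : G, (∀ x, π (g • x) = π x) → g = 1 := by
    intro g hg
    let N : Subgroup G := (MulAction.toPermHom G (G ⧸ M)).ker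
    have hgN : g ∈ N := by
      rw [MonoidHom.mem_ker]
      ext q
      obtain ⟨x, rfl⟩ := hsurj q
      simp [← hπ, hg]
    by_contra h1
    have hNb : N ≠ ⊥ := fun hb => h1 (by rwa [hb, Subgroup.mem_bot] at hgN)
    obtain ⟨x, y, hxy⟩ := hnc
    have := hqp N (MonoidHom.normal_ker _) hNb
    obtain ⟨⟨n, hn⟩, hnx⟩ := exists_smul_eq N x y
    refine hxy (?_ : π x = π y)
    have h2 := Equiv.ext_iff.1 (MonoidHom.mem_ker.1 hn) (π x)
    simp [← hπ] at h2
    rw [← hnx]
    exact h2.symm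
  -- the fibre of `a` is a single point
  set P := MulAction.toPermHom G (G ⧸ M) with hPdef
  have hPinj : Function.Injective P := by
    rw [injective_iff_map_eq_one]
    intro g hg
    refine hfaith g fun x => ?_
    rw [hπ]
    exact Equiv.ext_iff.1 hg (π x)
  let Fix : Subgroup G :=
    { carrier := {g | ∀ z, π z = π a → g • z = z}
      one_mem' := fun z _ => one_smul G z
      mul_mem' := fun {g h} hg hh z hz => by rw [mul_smul, hh z hz, hg z hz]
      inv_mem' := fun {g} hg z hz => inv_smul_eq_iff.2 (hg z hz).symm }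
  set D := Fix.map P
  have hnorm : ∀ f : Equiv.Perm (G ⧸ M), Equiv.Perm.sign f = 1 → f (π a) = π a →
      ∀ d ∈ D, f * d * f⁻¹ ∈ D := by
    intro f hf hfa d hd
    obtain ⟨g, hg, rfl⟩ := hd
    obtain ⟨m, rfl⟩ := heven f hf
    refine ⟨m * g * m⁻¹, fun z hz => ?_, by simp only [map_mul, map_inv]; rfl⟩
    rw [mul_smul, mul_smul, hg _ ?_, smul_inv_smul]
    rw [hπ, hz, inv_smul_eq_iff]
    exact hfa.symm
  set q₀ := π a
  have hq₀ : q₀ ∉ Γ' := fun h => by
    obtain ⟨x, hx, hxa⟩ := mem_image.1 h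
    exact ha (hclosed x hx a hxa.symm)
  obtain ⟨p, hp, r, hr, hpr⟩ := one_lt_card.1 hΓ'
  obtain ⟨x₁, hx₁, rfl⟩ := mem_image.1 hp
  obtain ⟨y₁, hy₁, rfl⟩ := mem_image.1 hr
  obtain ⟨d, hd, hdxy⟩ := hJ x₁ hx₁ y₁ hy₁
  have hdfix : ∀ q, q ∉ Γ' → P d q = q := by
    intro q hq
    obtain ⟨w, rfl⟩ := hsurj q
    show d • π w = π w
    rw [← hπ, hd w (hout w hq)]
  have hdD : P d ∈ D := by
    refine ⟨d, fun z (hz : π z = q₀) => hd z fun hzΓ => hq₀ ?_, rfl⟩
    rw [← hz]
    exact mem_image_of_mem _ hzΓ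
  obtain ⟨z₁, hz₁, w₁, hw₁, hzw⟩ := one_lt_card.1 (show 1 < (Γ'ᶜ.erase q₀).card by
    rw [card_erase_of_mem (mem_compl.2 hq₀), card_compl]; omega)
  simp only [mem_erase, mem_compl] at hz₁ hw₁
  set x' := π x₁
  set y' := π y₁
  have hdx : P d x' = y' := by
    show d • π x₁ = π y₁
    rw [← hπ, hdxy]
  have hxz : x' ≠ z₁ := fun h => hz₁.2 (h ▸ hp)
  have hxw : x' ≠ w₁ := fun h => hw₁.2 (h ▸ hp)
  have hyz : y' ≠ z₁ := fun h => hz₁.2 (h ▸ hr)
  have hyw : y' ≠ w₁ := fun h => hw₁.2 (h ▸ hr)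
  have hxq : x' ≠ q₀ := fun h => hq₀ (h ▸ hp)
  have hyq : y' ≠ q₀ := fun h => hq₀ (h ▸ hr)
  have h3D : Equiv.swap y' z₁ * Equiv.swap z₁ x' ∈ D := by
    set τ := Equiv.swap x' z₁ * Equiv.swap z₁ w₁
    have hτs : Equiv.Perm.sign τ = 1 := by
      simp [τ, Equiv.Perm.sign_swap hxz, Equiv.Perm.sign_swap hzw]
    have hτq : τ q₀ = q₀ := by
      simp [τ, Equiv.swap_apply_of_ne_of_ne (Ne.symm hxq) (Ne.symm hz₁.1),
        Equiv.swap_apply_of_ne_of_ne (Ne.symm hz₁.1) (Ne.symm hw₁.1)]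
    have h1 : P d * (τ * (P d)⁻¹ * τ⁻¹) ∈ D := mul_mem hdD (hnorm τ hτs hτq _ (inv_mem hdD))
    have h2 : P d * (τ * (P d)⁻¹ * τ⁻¹) =
        (P d * Equiv.swap x' z₁ * (P d)⁻¹) * (P d * Equiv.swap z₁ w₁ * (P d)⁻¹) * τ⁻¹ := by
      simp only [τ]; group
    rw [h2, ← Equiv.swap_apply_apply, ← Equiv.swap_apply_apply, hdx, hdfix z₁ hz₁.2,
      hdfix w₁ hw₁.2] at h1
    simp only [τ, mul_inv_rev, Equiv.swap_inv] at h1
    rwa [mul_assoc, ← mul_assoc (Equiv.swap z₁ w₁) (Equiv.swap z₁ w₁), Equiv.swap_mul_self,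
      one_mul, Equiv.swap_comm x' z₁] at h1
  have hall : ∀ {u v w : G ⧸ M}, u ≠ v → u ≠ w → v ≠ w → u ≠ q₀ → v ≠ q₀ → w ≠ q₀ →
      Equiv.swap u v * Equiv.swap v w ∈ D := fun h1 h2 h3 h4 h5 h6 =>
    mem_of_threeCycle_conj D hyz (Ne.symm hpr) (Ne.symm hxz) hyq hz₁.1 hxq h3D hnorm
      h1 h2 h3 h4 h5 h6
  have hevenD : ∀ σ : Equiv.Perm (G ⧸ M), Equiv.Perm.sign σ = 1 → σ q₀ = q₀ → σ ∈ D := by
    intro σ hσ hσq
    let S := {q : G ⧸ M // q ≠ q₀}
    have hmem : σ.subtypePerm (p := fun q => q ≠ q₀) (fun q => by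
        refine not_congr ?_
        conv_lhs => rw [← hσq]
        exact σ.apply_eq_iff_eq) ∈ alternatingGroup S := by
      rw [Equiv.Perm.mem_alternatingGroup]
      refine (Equiv.Perm.sign_subtypePerm _ _ fun q hq h => ?_).trans hσ
      exact hq (h ▸ hσq)
    rw [← Equiv.Perm.closure_three_cycles_eq_alternating] at hmem
    have hle : Subgroup.closure {τ : Equiv.Perm S | τ.IsThreeCycle} ≤
        D.comap Equiv.Perm.ofSubtype := by
      rw [Subgroup.closure_le]
      intro τ hτ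
      obtain ⟨u, v, w, huv, huw, hvw, hsupp⟩ := card_eq_three.1 hτ.card_support
      have : ∃ u v w : S, u ≠ v ∧ u ≠ w ∧ v ≠ w ∧ τ = Equiv.swap u v * Equiv.swap v w := by
        have hu : u ∈ τ.support := by rw [hsupp]; simp
        refine ⟨u, τ u, τ (τ u), ?_, ?_, ?_, ?_⟩
        · exact (Equiv.Perm.mem_support.1 hu).symm
        · intro h
          have h1 : u ∈ (τ ^ 2).support := by
            rw [Equiv.Perm.support_pow_coprime (by rw [hτ.orderOf]; decide)]; exact hu
          exact Equiv.Perm.mem_support.1 h1 (by rw [pow_two, Equiv.Perm.mul_apply]; exact h.symm)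
        · intro h
          exact Equiv.Perm.mem_support.1 hu (τ.injective h).symm
        · exact (Equiv.Perm.IsThreeCycle.eq_swap_mul_swap_iff_mem_support hτ).2 hu
      obtain ⟨u, v, w, huv, huw, hvw, rfl⟩ := this
      show Equiv.Perm.ofSubtype (Equiv.swap u v * Equiv.swap v w) ∈ D
      rw [map_mul, Equiv.Perm.ofSubtype_swap_eq, Equiv.Perm.ofSubtype_swap_eq]
      exact hall (fun h => huv (Subtype.ext h)) (fun h => huw (Subtype.ext h))
        (fun h => hvw (Subtype.ext h)) u.2 v.2 w.2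
    have := hle hmem
    rw [Subgroup.mem_comap, Equiv.Perm.ofSubtype_subtypePerm] at this
    · exact this
    · intro q hq h
      exact hq (h ▸ hσq)
  have hb1 : ∀ z, π z = q₀ → z = a := by
    intro z hz
    let G₀ : Subgroup G := (Equiv.Perm.sign.comp P).ker
    have hG₀ : G₀ ≠ ⊥ := fun hb => by
      have hs : Equiv.Perm.sign (Equiv.swap y' z₁ * Equiv.swap z₁ x') = 1 := by
        simp [Equiv.Perm.sign_swap hyz, Equiv.Perm.sign_swap (Ne.symm hxz)]
      obtain ⟨g, hg⟩ := heven _ hs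
      have hgG : g ∈ G₀ := by
        rw [MonoidHom.mem_ker, MonoidHom.comp_apply]
        show Equiv.Perm.sign (MulAction.toPerm g) = 1
        rw [hg, hs]
      rw [hb, Subgroup.mem_bot] at hgG
      have := Equiv.ext_iff.1 hg x'
      simp [hgG] at this
      exact hpr this
    have := hqp G₀ (MonoidHom.normal_ker _) hG₀
    obtain ⟨⟨g, hg⟩, hgz⟩ := exists_smul_eq G₀ a z
    have hgq : P g q₀ = q₀ := by
      show g • π a = π a
      rw [← hπ]
      exact (congrArg π hgz).trans hz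
    obtain ⟨g', hg', hgg'⟩ := hevenD (P g) hg hgq
    have : g = g' := hPinj hgg'.symm
    subst this
    rw [← hgz]
    exact hg' a rfl
  have hinj : Function.Injective π := by
    intro x y hxy
    obtain ⟨g, rfl⟩ := exists_smul_eq G a x
    have h1 : π (g⁻¹ • y) = q₀ := by rw [hπ, ← hxy, hπ, inv_smul_smul]
    rw [← hb1 _ h1, smul_inv_smul]
  intro σ hσ
  let e := Equiv.ofBijective π ⟨hinj, hsurj⟩
  obtain ⟨g, hg⟩ := heven (e.permCongr σ) (by rw [Equiv.Perm.sign_permCongr, hσ])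
  refine ⟨g, Equiv.ext fun x => hinj ?_⟩
  have := Equiv.ext_iff.1 hg (π x)
  simp only [MulAction.toPerm_apply, Equiv.permCongr_apply] at this ⊢
  rw [hπ, this]
  show e (σ (e.symm (e x))) = π (σ x)
  rw [Equiv.symm_apply_apply]
  rfl

/-- Transitivity of the pointwise stabiliser of the complement gives a Jordan set. -/
theorem isJordanSet_of_isPretransitive (Γ : Set Ω) [Fintype Γ]
    (hJ : IsPretransitive (fixingSubgroup G Γᶜ) (SubMulAction.ofFixingSubgroup G Γᶜ)) :
    IsJordanSet G Γ.toFinset := by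
  intro x hx y hy
  rw [Set.mem_toFinset] at hx hy
  obtain ⟨⟨h, hh⟩, hxy⟩ := hJ.exists_smul_eq
    ⟨x, by simpa [SubMulAction.mem_ofFixingSubgroup_iff] using hx⟩
    ⟨y, by simpa [SubMulAction.mem_ofFixingSubgroup_iff] using hy⟩
  refine ⟨h, fun z hz => ?_, congrArg Subtype.val hxy⟩
  exact (mem_fixingSubgroup_iff G).1 hh z (by simpa using hz)

/-- A faithful quasiprimitive group with a primitive Jordan set is primitive. -/
theorem isPreprimitive_of_primitive_jordanSet [Finite G] [FaithfulSMul G Ω]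
    (hqp : ∀ N : Subgroup G, N.Normal → N ≠ ⊥ → IsPretransitive N Ω) (Γ : Set Ω) [Fintype Γ]
    (hΓ : 1 < Γ.ncard)
    (hJp : IsPreprimitive (fixingSubgroup G Γᶜ) (SubMulAction.ofFixingSubgroup G Γᶜ)) :
    IsPreprimitive G Ω := by
  classical
  have hJ := isJordanSet_of_isPretransitive Γ hJp.toIsPretransitive
  have hΓc : 1 < Γ.toFinset.card := by rwa [← Set.ncard_eq_toFinset_card']
  obtain ⟨a₀, ha₀, b₀, hb₀, hab₀⟩ := one_lt_card.1 hΓc
  obtain ⟨h₀, hh₀, hh₀ab⟩ := hJ a₀ ha₀ b₀ hb₀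
  have : IsPretransitive G Ω := by
    have := hqp ⊤ inferInstance (fun h => hab₀ (by
      have : h₀ ∈ (⊤ : Subgroup G) := trivial
      rw [h, Subgroup.mem_bot] at this
      rwa [this, one_smul] at hh₀ab))
    exact ⟨fun x y => by
      obtain ⟨g, hg⟩ := exists_smul_eq (⊤ : Subgroup G) x y
      exact ⟨(g : G), hg⟩⟩
  have : Nontrivial Ω := ⟨⟨a₀, b₀, hab₀⟩⟩
  obtain ⟨M, hM, π, hπ, hπa⟩ := exists_primitive_quotient (G := G) a₀
  have := isPreprimitive_quotient hM
  have hnc : ∃ x y, π x ≠ π y := by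
    by_contra h
    push Not at h
    refine hM.1 ((Subgroup.eq_top_iff' M).2 fun g => ?_)
    have h' := h (g • a₀) a₀
    rw [hπ, hπa, Quotient.smul_coe, smul_eq_mul, mul_one, QuotientGroup.eq] at h'
    simpa using h'
  obtain ⟨hin, hclosed⟩ := fibre_dichotomy hqp hJ hΓc π hπ hnc
  have hinj : Function.Injective π := by
    intro x y hxy
    by_contra hne
    obtain ⟨g, hg⟩ := exists_smul_eq G x a₀
    have hy0 : π (g • y) = π a₀ := by rw [← hg, hπ, hπ, hxy]
    have hne' : g • y ≠ a₀ := fun h => hne (smul_left_cancel g (h.trans hg.symm)).symm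
    have hyΓ : g • y ∈ Γ := by simpa using hclosed a₀ ha₀ _ hy0
    have haΓ : a₀ ∈ Γ := by simpa using ha₀
    let B : Set (SubMulAction.ofFixingSubgroup G Γᶜ) := {z | π z.1 = π a₀}
    have hB : IsBlock (fixingSubgroup G Γᶜ) B := by
      rw [isBlock_iff_smul_eq_or_disjoint]
      intro h
      have hmem : ∀ z, z ∈ h • B ↔ (h : G)⁻¹ • π z.1 = π a₀ := fun z => by
        rw [Set.mem_smul_set_iff_inv_smul_mem]
        show π (((h : G)⁻¹) • z.1) = π a₀ ↔ _
        rw [hπ]
      by_cases hfix : (h : G) • π a₀ = π a₀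
      · refine Or.inl (Set.ext fun z => ?_)
        rw [hmem, inv_smul_eq_iff, hfix]
        exact Iff.rfl
      · refine Or.inr (Set.disjoint_left.2 fun z hz (hz' : π z.1 = π a₀) => hfix ?_)
        rw [hmem, inv_smul_eq_iff, hz'] at hz
        exact hz.symm
    rcases hJp.isTrivialBlock_of_isBlock hB with h | h
    · have h1 : (⟨g • y, by simpa [SubMulAction.mem_ofFixingSubgroup_iff] using hyΓ⟩ :
          SubMulAction.ofFixingSubgroup G Γᶜ) ∈ B := hy0
      have h2 : (⟨a₀, by simpa [SubMulAction.mem_ofFixingSubgroup_iff] using haΓ⟩ :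
          SubMulAction.ofFixingSubgroup G Γᶜ) ∈ B := (rfl : π a₀ = π a₀)
      exact hne' (congrArg Subtype.val (h h1 h2))
    · refine hin ⟨π a₀, fun z hz => ?_⟩
      have h1 : (⟨z, by simpa [SubMulAction.mem_ofFixingSubgroup_iff] using hz⟩ :
          SubMulAction.ofFixingSubgroup G Γᶜ) ∈ B := h ▸ Set.mem_univ _
      exact h1
  have hsurj : Function.Surjective π := by
    intro q
    induction q using QuotientGroup.induction_on with
    | H g => exact ⟨g • a₀, by rw [hπ, hπa, Quotient.smul_coe, smul_eq_mul, mul_one]⟩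
  let f : Ω →ₑ[id (α := G)] (G ⧸ M) := { toFun := π, map_smul' := hπ }
  exact (isPreprimitive_congr (f := f) Function.surjective_id ⟨hinj, hsurj⟩).2 inferInstance

end CfsgLib.Perm59
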